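import Groth.Agent.ResProp.EF.F5.Iface
import Groth.Agent.ResProp.EF.K566.Gen
import Mathlib.Algebra.Category.ModuleCat.Biproducts
import Mathlib.CategoryTheory.Preadditive.AdditiveFunctor
import Mathlib.RingTheory.Finiteness.Prod

/-!
# F5, final form of the datum: `Theta2` and `AllHit` (captain helper386)

`Theta2 X K`: functors `h i` (`= H^0 RΓ(X, Ψ_i ⊗ -)`), represented on push-forwards by perfect complexes, with natural maps
`ev i Y : h i Y → V Y = H^0(us Y ⊗ K)`, whose values generate `V Y` over a ring `P` (`= P_S`) acting naturally on `V`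
(868's (B): `V = P_S · V^Γ`). Theorem `allHit`: `RepLemma` and `Theta2` give `AllHit`.
-/

set_option autoImplicit false

universe p t w v u

open CategoryTheory CategoryTheory.Limits HomologicalComplex

namespace Groth.Agent.ResProp.EF.F5

open Groth.Agent.ResProp.EF.K294 Groth.Agent.PerfB.RingKFlat

variable {C : Type v} [Category.{w} C] [Abelian C] {A : Type u} [CommRing A] (X : Chart A C)

/-- the datum for `AllHit` -/
structure Theta2 (K : CM A) where
  /-- the ring `P_S` acting on `V` -/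
  P : Type p
  [ringP : Ring P]
  /-- `V Y = H^0(us Y ⊗ K)` as a `P`-module -/
  V : CochainComplex C ℤ ⥤ ModuleCat.{u} P
  e : ∀ Y, V.obj Y ≃+ (hh X K).obj Y
  e_nat : ∀ {Y Y' : CochainComplex C ℤ} (f : Y ⟶ Y') (z : V.obj Y),
    e Y' ((V.map f).hom z) = ((hh X K).map f).hom (e Y z)
  ι : Type t
  /-- `h i Y = H^0 RΓ(X, Ψ_i ⊗ Y)` -/
  h : ι → (CochainComplex C ℤ ⥤ AddCommGrpCat.{t})
  coh : ∀ i, Coh (h i)
  Q : ι → CM A
  perf : ∀ i, Perf (Q i)
  q : ∀ i, (h i).obj (X.ulC.obj (Q i))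
  rep : ∀ i, RepOn X (h i) (Q i) (q i)
  ev : ∀ (i : ι) (Y : CochainComplex C ℤ), (h i).obj Y → V.obj Y
  ev_nat : ∀ (i : ι) {Y Y' : CochainComplex C ℤ} (f : Y ⟶ Y') (y : (h i).obj Y),
    ev i Y' (((h i).map f).hom y) = (V.map f).hom (ev i Y y)
  /-- generation by the values of the `ev i` -/
  gen : ∀ Y : CochainComplex C ℤ, Bdd Y → Submodule.span P {z : V.obj Y | ∃ (i : ι) (y : (h i).obj Y), ev i Y y = z} = ⊤

attribute [instance] Theta2.ringP

variable {X}

lemma bdd_of_isZero {D : Type*} [Category* D] [Abelian D] (T : CochainComplex D ℤ) (hT : IsZero T) : Bdd T := by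
  refine ⟨0, 0, ?_, ?_⟩
  · rw [CochainComplex.isStrictlyGE_iff]
    intro i _
    exact (HomologicalComplex.eval D (ComplexShape.up ℤ) i).map_isZero hT
  · rw [CochainComplex.isStrictlyLE_iff]
    intro i _
    exact (HomologicalComplex.eval D (ComplexShape.up ℤ) i).map_isZero hT

lemma bdd_of_iso {D : Type*} [Category* D] [Abelian D] {T T' : CochainComplex D ℤ} (f : T ≅ T') (hT : Bdd T) : Bdd T' := by
  obtain ⟨a, b, ha, hb⟩ := hT
  refine ⟨a, b, ?_, ?_⟩
  · rw [CochainComplex.isStrictlyGE_iff] at ha ⊢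
    exact fun i hi => (ha i hi).of_iso ((HomologicalComplex.eval D (ComplexShape.up ℤ) i).mapIso f.symm)
  · rw [CochainComplex.isStrictlyLE_iff] at hb ⊢
    exact fun i hi => (hb i hi).of_iso ((HomologicalComplex.eval D (ComplexShape.up ℤ) i).mapIso f.symm)

lemma bdd_biprod {D : Type*} [Category* D] [Abelian D] {T T' : CochainComplex D ℤ} (hT : Bdd T) (hT' : Bdd T') :
    Bdd (T ⊞ T') := by
  obtain ⟨a, b, ha, hb⟩ := hT
  obtain ⟨a', b', ha', hb'⟩ := hT'
  refine ⟨min a a', max b b', ?_, ?_⟩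
  · rw [CochainComplex.isStrictlyGE_iff] at ha ha' ⊢
    intro i hi
    have e := (HomologicalComplex.eval D (ComplexShape.up ℤ) i).mapBiprod T T'
    refine IsZero.of_iso ?_ e
    have h1 := ha i (lt_of_lt_of_le hi (min_le_left _ _))
    have h2 := ha' i (lt_of_lt_of_le hi (min_le_right _ _))
    exact (biprod_isZero_iff _ _).2 ⟨h1, h2⟩
  · rw [CochainComplex.isStrictlyLE_iff] at hb hb' ⊢
    intro i hi
    have e := (HomologicalComplex.eval D (ComplexShape.up ℤ) i).mapBiprod T T'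
    refine IsZero.of_iso ?_ e
    have h1 := hb i (lt_of_le_of_lt (le_max_left _ _) hi)
    have h2 := hb' i (lt_of_le_of_lt (le_max_right _ _) hi)
    exact (biprod_isZero_iff _ _).2 ⟨h1, h2⟩

lemma perf_biprod {Q Q' : CM A} (hQ : Perf Q) (hQ' : Perf Q') : Perf (Q ⊞ Q') where
  bdd := bdd_biprod hQ.bdd hQ'.bdd
  fin n := by
    have e := ((HomologicalComplex.eval (ModuleCat.{u} A) (ComplexShape.up ℤ) n).mapBiprod Q Q' ≪≫
      ModuleCat.biprodIsoProd (Q.X n) (Q'.X n)).toLinearEquiv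
    have h1 := hQ.fin n
    have h2 := hQ'.fin n
    have h3 : Module.Finite A (Q.X n × Q'.X n) := inferInstance
    exact Module.Finite.equiv (M := Q.X n × Q'.X n) e.symm
  proj n := by
    have e := ((HomologicalComplex.eval (ModuleCat.{u} A) (ComplexShape.up ℤ) n).mapBiprod Q Q' ≪≫
      ModuleCat.biprodIsoProd (Q.X n) (Q'.X n)).toLinearEquiv
    have h1 := hQ.proj n
    have h2 := hQ'.proj n
    have h3 : Module.Projective A (Q.X n × Q'.X n) := inferInstance
    exact Module.Projective.of_equiv (M := Q.X n × Q'.X n) e.symm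

lemma quasiIso_biprodMap {D : Type*} [Category* D] [Abelian D] {K L K' L' : CochainComplex D ℤ} (f : K ⟶ L) (g : K' ⟶ L')
    [QuasiIso f] [QuasiIso g] : QuasiIso (biprod.map f g) := by
  rw [quasiIso_iff]
  intro i
  rw [quasiIsoAt_iff_isIso_homologyMap]
  have hf : IsIso (homologyMap f i) := inferInstance
  have hg : IsIso (homologyMap g i) := inferInstance
  let H := homologyFunctor D (ComplexShape.up ℤ) i
  have hf' : IsIso (H.map f) := hf
  have hg' : IsIso (H.map g) := hg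
  change IsIso (H.map (biprod.map f g))
  refine ⟨H.map biprod.fst ≫ inv (H.map f) ≫ H.map biprod.inl + H.map biprod.snd ≫ inv (H.map g) ≫ H.map biprod.inr,
    ?_, ?_⟩
  · rw [Preadditive.comp_add, ← Category.assoc, ← Category.assoc (H.map (biprod.map f g)), ← H.map_comp, ← H.map_comp,
      biprod.map_fst, biprod.map_snd, H.map_comp, H.map_comp, Category.assoc, Category.assoc, IsIso.hom_inv_id_assoc,
      IsIso.hom_inv_id_assoc, ← H.map_comp, ← H.map_comp, ← H.map_add, biprod.total, H.map_id]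
  · rw [Preadditive.add_comp]
    simp only [Category.assoc]
    rw [← H.map_comp, ← H.map_comp, biprod.inl_map, biprod.inr_map, H.map_comp, H.map_comp, IsIso.inv_hom_id_assoc,
      IsIso.inv_hom_id_assoc, ← H.map_comp, ← H.map_comp, ← H.map_add, biprod.total, H.map_id]

lemma perfT_of_isZero (T : CochainComplex C ℤ) (hT : IsZero T) : PerfT X T := by
  refine ⟨bdd_of_isZero T hT, X.usC.obj T, 𝟙 _, ?_, inferInstance⟩
  have hz : IsZero (X.usC.obj T) := X.usC.map_isZero hT
  refine ⟨bdd_of_isZero _ hz, fun n => ?_, fun n => ?_⟩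
  · have := (HomologicalComplex.eval (ModuleCat.{u} A) (ComplexShape.up ℤ) n).map_isZero hz
    have : Subsingleton ((X.usC.obj T).X n) := ModuleCat.subsingleton_of_isZero this
    infer_instance
  · have := (HomologicalComplex.eval (ModuleCat.{u} A) (ComplexShape.up ℤ) n).map_isZero hz
    have : Subsingleton ((X.usC.obj T).X n) := ModuleCat.subsingleton_of_isZero this
    infer_instance

lemma perfT_of_iso {T T' : CochainComplex C ℤ} (f : T ≅ T') (hT : PerfT X T) : PerfT X T' := by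
  obtain ⟨h1, Q, l, hQ, hl⟩ := hT
  exact ⟨bdd_of_iso f h1, Q, l ≫ X.usC.map f.hom, hQ, inferInstance⟩

lemma perfT_biprod {T T' : CochainComplex C ℤ} (hT : PerfT X T) (hT' : PerfT X T') : PerfT X (T ⊞ T') := by
  obtain ⟨h1, Q, l, hQ, hl⟩ := hT
  obtain ⟨h1', Q', l', hQ', hl'⟩ := hT'
  have : PreservesBinaryBiproducts X.usC := preservesBinaryBiproducts_of_preservesBiproducts _
  refine ⟨bdd_biprod h1 h1', Q ⊞ Q', biprod.map l l' ≫ (X.usC.mapBiprod T T').inv, perf_biprod hQ hQ', ?_⟩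
  have := quasiIso_biprodMap l l'
  infer_instance

theorem allHit [IsNoetherianRing A] (hrep : RepLemma.{t} X) {K : CM A} (Θ : Theta2.{p, t} X K) : AllHit X K := by
  intro Y hY y
  have hadd : ∀ T T' : CochainComplex C ℤ, PerfT X T → PerfT X T' → PerfT X (T ⨿ T') := fun T T' h h' =>
    perfT_of_iso (biprod.isoCoprod T T') (perfT_biprod h h')
  have hit : ∀ z ∈ {z : Θ.V.obj Y | ∃ (i : Θ.ι) (y : (Θ.h i).obj Y), Θ.ev i Y y = z},
      K566.HitBy Θ.V (PerfT X) z := by
    rintro _ ⟨i, y, rfl⟩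
    obtain ⟨T, f, s, hT, hs, l, hl⟩ := hrep (Θ.h i) (Θ.coh i) (Θ.Q i) (Θ.perf i).bdd (Θ.q i) (Θ.rep i) Y hY y
    exact ⟨T, f, Θ.ev i T s, ⟨hT, Θ.Q i, l, Θ.perf i, hl⟩, by rw [← Θ.ev_nat, hs]⟩
  obtain ⟨T, f, s, hT, hs⟩ := K566.gen' (V := Θ.V) (TT := PerfT X) (fun T hT => perfT_of_isZero T hT) hadd _
    (Θ.gen Y hY) hit ((Θ.e Y).symm y)
  exact ⟨T, f, Θ.e T s, hT, by rw [← Θ.e_nat, hs, AddEquiv.apply_symm_apply]⟩

end Groth.Agent.ResProp.EF.F5
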