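import Groth.Agent.ResProp.EF.K294.Tor
import Groth.Agent.PerfC.TensorSymm

/-!
# The swap `K ⊗ L ≅ L ⊗ K` of complexes of modules
-/

set_option autoImplicit false

universe u

open CategoryTheory CategoryTheory.Limits HomologicalComplex MonoidalCategory

namespace Groth.Agent.ResProp.EF.F5

open Groth.Agent.ResProp.EF.K294 Groth.Agent.PerfB.RingKFlat

variable {A : Type u} [CommRing A]

/-- the swap -/
noncomputable def swp (K L : CM A) : tens K L ≅ tens L K :=
  Groth.Agent.PerfC.TensorSymm.symmCx (TR A) (fun M N => β_ N M)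
    (fun {_ _} f N => (BraidedCategory.braiding_naturality_right N f))
    (fun M {_ _} f => (BraidedCategory.braiding_naturality_left f M)) K L

theorem swp_nat₁ {K K' : CM A} (f : K ⟶ K') (L : CM A) :
    ((TR A).map₂CochainComplex.map f).app L ≫ (swp K' L).hom =
      (swp K L).hom ≫ ((TR A).map₂CochainComplex.obj L).map f :=
  Groth.Agent.PerfC.TensorSymm.symmCx_naturality_left (TR A) (fun M N => β_ N M)
    (fun {_ _} f N => (BraidedCategory.braiding_naturality_right N f))
    (fun M {_ _} f => (BraidedCategory.braiding_naturality_left f M)) f L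

theorem swp_nat₂ (K : CM A) {L L' : CM A} (f : L ⟶ L') :
    ((TR A).map₂CochainComplex.obj K).map f ≫ (swp K L').hom =
      (swp K L).hom ≫ ((TR A).map₂CochainComplex.map f).app K :=
  Groth.Agent.PerfC.TensorSymm.symmCx_naturality_right (TR A) (fun M N => β_ N M)
    (fun {_ _} f N => (BraidedCategory.braiding_naturality_right N f))
    (fun M {_ _} f => (BraidedCategory.braiding_naturality_left f M)) K f

/-- the swap as a natural isomorphism -/
noncomputable def swpNat (K : CM A) : tensR K ≅ (TR A).map₂CochainComplex.obj K :=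
  NatIso.ofComponents (fun L => swp L K) (fun f => swp_nat₁ f K)

/-- `N ⊗ f` is a quasi-isomorphism if `f ⊗ N` is -/
theorem quasiIso_swp {K L : CM A} (f : K ⟶ L) (N : CM A)
    [h : QuasiIso (((TR A).map₂CochainComplex.map f).app N)] :
    QuasiIso (((TR A).map₂CochainComplex.obj N).map f) := by
  have h1 := swp_nat₁ f N
  have h2 : ((TR A).map₂CochainComplex.obj N).map f = (swp K N).inv ≫ ((TR A).map₂CochainComplex.map f).app N ≫
      (swp L N).hom := by
    rw [h1, Iso.inv_hom_id_assoc]
  rw [h2]
  infer_instance

end Groth.Agent.ResProp.EF.F5
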