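import Groth.Agent.ResProp.EF.F5.Theta3
import Groth.Agent.ResProp.EF.K110.TensFlat
import Groth.Agent.ResProp.EF.K517.Surj
import Groth.Agent.ResProp.EF.K654.RepDatum
import Groth.Agent.ResProp.EF.F5.Swap

/-!
# F5: from the REP datum to `Theta3` (assembly; captain helper386)

Setting: a chart `X : Chart A C`, a bifunctor `TC : C ⥤ C ⥤ C` with `c : BifCompare.Data TC (TR A) us us us` (helper110),
`Θ : CochainComplex C ℤ ⥤ CochainComplex Ab ℤ` (`= RG` of helper874), `O : C` with `one : us O`.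
CONVENTION: `Ψ`, `K` on the right: `Y ⊗ Ψ = (TC.map₂CochainComplex.flip.obj Ψ).obj Y`.
-/

set_option autoImplicit false

universe p r s t w v u

open CategoryTheory CategoryTheory.Limits HomologicalComplex

namespace Groth.Agent.ResProp.EF.F5

open Groth.Agent.ResProp.EF.K294 Groth.Agent.PerfB.RingKFlat Groth.Agent.PerfB

variable {C : Type v} [Category.{w} C] [Abelian C] {A : Type u} [CommRing A] (X : Chart A C)
  (TC : C ⥤ C ⥤ C) [TC.Additive] [∀ M, (TC.obj M).Additive]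
  [∀ K L : CochainComplex C ℤ, CochainComplex.HasMapBifunctor K L TC]
  (c : BifCompare.Data TC (TR A) X.us X.us X.us)

/-- `Y ⊗ K` -/
noncomputable abbrev ten (Y K : CochainComplex C ℤ) : CochainComplex C ℤ := (TC.map₂CochainComplex.obj Y).obj K

/-- `Y ↦ us H^0(Y ⊗ K)` is `Y ↦ H^0(us Y ⊗ us K)` -/
noncomputable def chartIso (K : CochainComplex C ℤ) :
    TC.map₂CochainComplex.flip.obj K ⋙ homologyFunctor C (ComplexShape.up ℤ) 0 ⋙ X.us ≅ hh X (X.usC.obj K) :=
  NatIso.ofComponents (fun Y => ((((ten TC Y K).sc 0).mapHomologyIso X.us).symm : _ ≅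
      (X.usC.obj (ten TC Y K)).homology 0) ≪≫ homologyMapIso ((K110.totalIso X TC c K).app Y) 0) (by
    intro Y Y' f
    have h1 := ShortComplex.mapHomologyIso_inv_naturality
      ((shortComplexFunctor C (ComplexShape.up ℤ) 0).map ((TC.map₂CochainComplex.map f).app K)) X.us
    have h2 := congrArg (fun g => homologyMap g 0) ((K110.totalIso X TC c K).hom.naturality f)
    change homologyMap (_ ≫ _) 0 = homologyMap (_ ≫ _) 0 at h2
    rw [homologyMap_comp, homologyMap_comp] at h2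
    change X.us.map (homologyMap ((TC.map₂CochainComplex.map f).app K) 0) ≫ (((ten TC Y' K).sc 0).mapHomologyIso X.us).inv ≫
      homologyMap ((K110.totalIso X TC c K).hom.app Y') 0 = ((((ten TC Y K).sc 0).mapHomologyIso X.us).inv ≫
      homologyMap ((K110.totalIso X TC c K).hom.app Y) 0) ≫ _
    refine Eq.trans ?_ (Category.assoc _ _ _).symm
    refine Eq.trans ?_ (congrArg (fun g => (((ten TC Y K).sc 0).mapHomologyIso X.us).inv ≫ g) h2)
    refine Eq.trans (Category.assoc _ _ _).symm ?_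
    refine Eq.trans ?_ (Category.assoc _ _ _)
    exact congrArg (fun g => g ≫ homologyMap ((K110.totalIso X TC c K).hom.app Y') 0) h1)

/-- **the class of `hh X (usC K) Y` attached to an invariant `z : O ⟶ H^0(Y ⊗ K)`** -/
noncomputable def invCls {O : C} (one : X.us.obj O) (K Y : CochainComplex C ℤ) (z : O ⟶ (ten TC Y K).homology 0) :
    (hh X (X.usC.obj K)).obj Y :=
  ((chartIso X TC c K).hom.app Y).hom ((X.us.map z).hom one)

theorem invCls_nat {O : C} (one : X.us.obj O) (K : CochainComplex C ℤ) {Y Y' : CochainComplex C ℤ} (f : Y ⟶ Y')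
    (z : O ⟶ (ten TC Y K).homology 0) :
    invCls X TC c one K Y' (z ≫ homologyMap ((TC.map₂CochainComplex.map f).app K) 0) =
      ((hh X (X.usC.obj K)).map f).hom (invCls X TC c one K Y z) := by
  have h := congrArg (fun g => g.hom ((X.us.map z).hom one)) ((chartIso X TC c K).hom.naturality f)
  refine Eq.trans ?_ h
  exact congrArg (fun g => ((chartIso X TC c K).hom.app Y').hom (g.hom one)) (X.us.map_comp z _)

/-- quasi-isomorphisms are tested on the chart -/
theorem quasiIso_of_usC {K L : CochainComplex C ℤ} (f : K ⟶ L) [h : QuasiIso (X.usC.map f)] : QuasiIso f := by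
  have : X.us.ReflectsIsomorphisms := inferInstance
  exact (HomologicalComplex.quasiIso_map_iff_of_preservesHomology f X.us).1 h

include c in
/-- quasi-isomorphism `Y ⊗ e` -/
theorem quasiIso_ten (Y : CochainComplex C ℤ) (hY : Bdd Y) {K L : CochainComplex C ℤ} (e : K ⟶ L)
    (he : ∀ N : ModuleCat.{u} A, QuasiIso (K476.Mum.tensMap (X.usC.map e) N)) :
    QuasiIso ((TC.map₂CochainComplex.obj Y).map e) := by
  have hY' : K744.Bdd (X.usC.obj Y) := by
    obtain ⟨l, m, hl, hm⟩ := hY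
    refine (bdd_iff _).1 ⟨l, m, ?_, ?_⟩
    · rw [CochainComplex.isStrictlyGE_iff] at hl ⊢
      exact fun i hi => X.us.map_isZero (hl i hi)
    · rw [CochainComplex.isStrictlyLE_iff] at hm ⊢
      exact fun i hi => X.us.map_isZero (hm i hi)
  have h1 := K476.MumBdd.quasiIso_app (X.usC.map e) he _ hY'
  have h2 := quasiIso_swp (X.usC.map e) (X.usC.obj Y)
  have h3 : QuasiIso (mapBifunctorMap (X.usC.map (𝟙 Y)) (X.usC.map e) (TR A) (ComplexShape.up ℤ)) := by
    rw [CategoryTheory.Functor.map_id]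
    exact h2
  have h4 := BifCompare.iso_naturality c (𝟙 Y) e
  have h6 : QuasiIso (mapBifunctorMap ((X.us.mapHomologicalComplex (ComplexShape.up ℤ)).map (𝟙 Y))
      ((X.us.mapHomologicalComplex (ComplexShape.up ℤ)).map e) (TR A) (ComplexShape.up ℤ) ≫
      (BifCompare.iso c Y L).hom) := by
    have h3' : QuasiIso (mapBifunctorMap ((X.us.mapHomologicalComplex (ComplexShape.up ℤ)).map (𝟙 Y))
      ((X.us.mapHomologicalComplex (ComplexShape.up ℤ)).map e) (TR A) (ComplexShape.up ℤ)) := h3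
    exact quasiIso_comp _ _
  rw [h4] at h6
  have : QuasiIso (X.usC.map ((TC.map₂CochainComplex.obj Y).map e)) :=
    @quasiIso_of_comp_left _ _ _ _ _ _ _ _ (BifCompare.iso c Y K).hom _ _ _ _ inferInstance h6
  exact quasiIso_of_usC X _

section Theta

variable (Θ : CochainComplex C ℤ ⥤ CochainComplex AddCommGrpCat.{t} ℤ) [Θ.Additive]

/-- `h_Ψ Y = H^0 RΓ(X, Y ⊗ Ψ)` -/
noncomputable abbrev hPsi (Ψ : CochainComplex C ℤ) : CochainComplex C ℤ ⥤ AddCommGrpCat.{t} :=
  TC.map₂CochainComplex.flip.obj Ψ ⋙ Θ ⋙ homologyFunctor AddCommGrpCat.{t} (ComplexShape.up ℤ) 0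

/-- what is needed of `Θ = RG` -/
structure ThetaData (O : C) where
  isTheta : K792.IsTheta Θ
  edge : K517.EdgeO Θ O
  /-- `H^0 RG` commutes with filtered colimits (of complexes with one lower bound) -/
  colim : ∀ {J : Type s} [SmallCategory J] [IsFiltered J] (F : J ⥤ CochainComplex C ℤ) (a : ℤ),
    (∀ i, (F.obj i).IsStrictlyGE a) → PreservesColimit F
      (Θ ⋙ homologyFunctor AddCommGrpCat.{t} (ComplexShape.up ℤ) 0 ⋙ forget AddCommGrpCat.{t})
  /-- (c2) -/
  rep : ∀ (Ψ : CochainComplex C ℤ) (a b : ℤ), Ψ.IsStrictlyGE a → (∀ n : ℤ, Module.Flat A (X.us.obj (Ψ.X n))) →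
    (∀ n : ℤ, Module.Finite A ((X.usC.obj Ψ).homology n)) →
    (∀ (N : ModuleCat.{u} A) (n : ℤ), b < n → IsZero ((K476.Mum.tens (X.usC.obj Ψ) N).homology n)) →
    ∃ (Q : CM A) (q : (hPsi TC Θ Ψ).obj (X.ulC.obj Q)), Perf Q ∧ RepOn X (hPsi TC Θ Ψ) Q q

/-- lower bounds add -/
theorem ten_ge (Y Ψ : CochainComplex C ℤ) (l a : ℤ) (hY : Y.IsStrictlyGE l)
    (hΨ : Ψ.IsStrictlyGE a) : (ten TC Y Ψ).IsStrictlyGE (l + a) := by
  rw [CochainComplex.isStrictlyGE_iff]
  intro j hj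
  refine K110.isZero_total_X TC Y Ψ j (fun p q hpq => ?_)
  by_cases hp : p < l
  · exact (TC.flip.obj _).map_isZero (Y.isZero_of_isStrictlyGE l p hp)
  · exact (TC.obj _).map_isZero (Ψ.isZero_of_isStrictlyGE a q (by omega))

include c in
/-- **(c1)** -/
theorem coh_hPsi (hΘ : K792.IsTheta Θ) (Ψ : CochainComplex C ℤ) (a : ℤ) [Ψ.IsStrictlyGE a]
    (hΨ : ∀ n : ℤ, Module.Flat A (X.us.obj (Ψ.X n))) : Coh (hPsi TC Θ Ψ) where
  additive := inferInstance
  exact S hS h1 h2 h3 x hx := by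
    have e1 := K110.shortExact_total X TC c hS Ψ hΨ
    obtain ⟨l, m, hl, -⟩ := h2
    have e2 := hΘ.ex (l + a) _ (ten_ge TC S.X₂ Ψ l a hl inferInstance) e1
    exact (ShortComplex.ab_exact_iff _).1 (e2.homology_exact₂ 0) x hx
  vanish := by
    refine ⟨-a, fun Z hZ hex x => ?_⟩
    obtain ⟨l, m, hl, -⟩ := hZ
    have e1 : (ten TC Z Ψ).IsGE 1 := by
      rw [CochainComplex.isGE_iff]
      intro i hi
      exact K110.exactAt_total_chart X TC c Z Ψ l a (-a) hΨ hex i (by omega)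
    have e2 := hΘ.van (l + a) 1 _ (ten_ge TC Z Ψ l a hl inferInstance) e1
    have e3 : IsZero ((Θ.obj (ten TC Z Ψ)).homology 0) := ((Θ.obj (ten TC Z Ψ)).exactAt_of_isGE 1 0 (by omega)).isZero_homology
    have := AddCommGrpCat.subsingleton_of_isZero e3
    exact Subsingleton.elim (α := ((Θ.obj (ten TC Z Ψ)).homology 0 : AddCommGrpCat)) x 0

/-- **(c5)** the map `h_Ψ Y → H^0(us Y ⊗ us K)` attached to `g : Ψ ⟶ K` -/
noncomputable def evPsi {O : C} (E : K517.EdgeO Θ O) (one : X.us.obj O) {Ψ K : CochainComplex C ℤ} (g : Ψ ⟶ K)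
    (Y : CochainComplex C ℤ) (y : (hPsi TC Θ Ψ).obj Y) : (hh X (X.usC.obj K)).obj Y :=
  invCls X TC c one K Y (E.ed (ten TC Y Ψ) y ≫ homologyMap ((TC.map₂CochainComplex.obj Y).map g) 0)

omit [Θ.Additive] in
theorem evPsi_nat {O : C} (E : K517.EdgeO Θ O) (one : X.us.obj O) {Ψ K : CochainComplex C ℤ} (g : Ψ ⟶ K)
    {Y Y' : CochainComplex C ℤ} (f : Y ⟶ Y') (y : (hPsi TC Θ Ψ).obj Y) :
    evPsi X TC c Θ E one g Y' (((hPsi TC Θ Ψ).map f).hom y) =
      ((hh X (X.usC.obj K)).map f).hom (evPsi X TC c Θ E one g Y y) := by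
  have h1 : E.ed (ten TC Y' Ψ) (((hPsi TC Θ Ψ).map f).hom y) =
      E.ed (ten TC Y Ψ) y ≫ homologyMap ((TC.map₂CochainComplex.map f).app Ψ) 0 :=
    E.nat ((TC.map₂CochainComplex.map f).app Ψ) y
  have h2 : homologyMap ((TC.map₂CochainComplex.map f).app Ψ) 0 ≫ homologyMap ((TC.map₂CochainComplex.obj Y').map g) 0 =
      homologyMap ((TC.map₂CochainComplex.obj Y).map g) 0 ≫ homologyMap ((TC.map₂CochainComplex.map f).app K) 0 := by
    rw [← homologyMap_comp, ← homologyMap_comp, (TC.map₂CochainComplex.map f).naturality g]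
  unfold evPsi
  rw [← invCls_nat, h1]
  congr 1
  rw [Category.assoc, Category.assoc]
  exact congrArg (fun k => E.ed (ten TC Y Ψ) y ≫ k) h2

/-- the output of (c4): natural endomorphisms, generation of everything by the invariant classes -/
structure GenData {O : C} (one : X.us.obj O) (K : CochainComplex C ℤ) where
  P : Type p
  act : P → ∀ Y : CochainComplex C ℤ, (hh X (X.usC.obj K)).obj Y →+ (hh X (X.usC.obj K)).obj Y
  act_nat : ∀ (a : P) {Y Y' : CochainComplex C ℤ}, Bdd Y → Bdd Y' → ∀ (f : Y ⟶ Y') (z : (hh X (X.usC.obj K)).obj Y),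
    act a Y' (((hh X (X.usC.obj K)).map f).hom z) = ((hh X (X.usC.obj K)).map f).hom (act a Y z)
  gen : ∀ Y : CochainComplex C ℤ, Bdd Y → ∀ Z : AddSubgroup ((hh X (X.usC.obj K)).obj Y),
    (∀ z : O ⟶ (ten TC Y K).homology 0, invCls X TC c one K Y z ∈ Z) → (∀ (a : P), ∀ z ∈ Z, act a Y z ∈ Z) → Z = ⊤


/-- a filtered colimit of complexes in degrees `≥ a` is in degrees `≥ a` -/
theorem ge_of_isColimit {J : Type s} [SmallCategory J] [IsFiltered J] [HasFilteredColimitsOfSize.{s, s} C]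
    (F : J ⥤ CochainComplex C ℤ) (k : Cocone F) (hk : IsColimit k) (a : ℤ) (hF : ∀ i, (F.obj i).IsStrictlyGE a) :
    k.pt.IsStrictlyGE a := by
  rw [CochainComplex.isStrictlyGE_iff]
  intro n hn
  have : HasColimitsOfShape J C := HasFilteredColimitsOfSize.HasColimitsOfShape J
  have h1 := isColimitOfPreserves (HomologicalComplex.eval C (ComplexShape.up ℤ) n) hk
  rw [IsZero.iff_id_eq_zero]
  refine h1.hom_ext (fun i => ?_)
  exact ((F.obj i).isZero_of_isStrictlyGE a n hn).eq_of_src _ _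

include c in
/-- invariant classes come from some `Ψ_i` -/
theorem surj_rep [HasFilteredColimitsOfSize.{s, s} C] (D : K654.RepDatum.{s} X) {O : C} (T : ThetaData.{s} X TC Θ O) (Y : CochainComplex C ℤ) (hY : Bdd Y)
    (hcol : PreservesColimit D.Ψ (TC.map₂CochainComplex.obj Y))
    (hac : ∀ j < 0, K792.Acyc Θ ((ten TC Y D.K).homology j)) (z : O ⟶ (ten TC Y D.K).homology 0) :
    ∃ (i : D.J) (y : (hPsi TC Θ (D.Ψ.obj i)).obj Y),
      T.edge.ed (ten TC Y (D.Ψ.obj i)) y ≫ homologyMap ((TC.map₂CochainComplex.obj Y).map (D.c.ι.app i ≫ D.e)) 0 = z := by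
  have hq := quasiIso_ten X TC c Y hY D.e D.univ
  have hi : ∀ j, IsIso (homologyMap ((TC.map₂CochainComplex.obj Y).map D.e) j) := fun j => inferInstance
  obtain ⟨l, m, hl, -⟩ := hY
  have hpt : D.c.pt.IsStrictlyGE D.a := ge_of_isColimit D.Ψ D.c D.isColimit D.a D.ge
  have hcol' := T.colim (D.Ψ ⋙ TC.map₂CochainComplex.obj Y) (l + D.a) (fun i => ten_ge TC Y _ l D.a hl (D.ge i))
  have hi0 := hi 0
  obtain ⟨i, y, h⟩ := K517.surj_colim T.isTheta T.edge (D.Ψ ⋙ TC.map₂CochainComplex.obj Y)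
    ((TC.map₂CochainComplex.obj Y).mapCocone D.c) (isColimitOfPreserves _ D.isColimit) (l + D.a)
    (ten_ge TC Y _ l D.a hl hpt)
    (fun j hj => by
      have hij := hi j
      exact K792.Acyc.of_iso' (asIso (homologyMap ((TC.map₂CochainComplex.obj Y).map D.e) j)).symm (hac j hj))
    (𝟙 _) (z ≫ inv (homologyMap ((TC.map₂CochainComplex.obj Y).map D.e) 0))
  refine ⟨i, y, ?_⟩
  rw [Functor.map_comp, homologyMap_comp, ← Category.assoc]
  have h' : T.edge.ed (ten TC Y (D.Ψ.obj i)) y ≫ homologyMap ((TC.map₂CochainComplex.obj Y).map (D.c.ι.app i)) 0 =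
      z ≫ inv (homologyMap ((TC.map₂CochainComplex.obj Y).map D.e) 0) := by
    refine h.trans ?_
    rw [homologyMap_id, Category.comp_id]
  rw [h', Category.assoc, IsIso.inv_hom_id, Category.comp_id]

/-- **the assembly** -/
noncomputable def theta3 [HasFilteredColimitsOfSize.{s, s} C] (D : K654.RepDatum.{s} X) {O : C} (one : X.us.obj O) (T : ThetaData.{s} X TC Θ O)
    (G : GenData.{p} X TC c one D.K)
    (hcol : ∀ Y : CochainComplex C ℤ, Bdd Y → PreservesColimit D.Ψ (TC.map₂CochainComplex.obj Y))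
    (hac : ∀ Y : CochainComplex C ℤ, Bdd Y → ∀ j < 0, K792.Acyc Θ ((ten TC Y D.K).homology j)) :
    Theta3.{p, s, t} X (X.usC.obj D.K) where
  P := G.P
  act := G.act
  act_nat := G.act_nat
  ι := D.J
  h i := hPsi TC Θ (D.Ψ.obj i)
  coh i := by
    have := D.ge i
    exact coh_hPsi X TC c Θ T.isTheta (D.Ψ.obj i) D.a (D.flat i)
  Q i := (T.rep (D.Ψ.obj i) D.a D.b (D.ge i) (D.flat i) (D.fin i) (D.van i)).choose
  perf i := (T.rep (D.Ψ.obj i) D.a D.b (D.ge i) (D.flat i) (D.fin i) (D.van i)).choose_spec.choose_spec.1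
  q i := (T.rep (D.Ψ.obj i) D.a D.b (D.ge i) (D.flat i) (D.fin i) (D.van i)).choose_spec.choose
  rep i := (T.rep (D.Ψ.obj i) D.a D.b (D.ge i) (D.flat i) (D.fin i) (D.van i)).choose_spec.choose_spec.2
  ev i Y y := evPsi X TC c Θ T.edge one (D.c.ι.app i ≫ D.e) Y y
  ev_nat i Y Y' _ _ f y := evPsi_nat X TC c Θ T.edge one (D.c.ι.app i ≫ D.e) f y
  gen Y hY Z h1 h2 := G.gen Y hY Z (fun z => by
    obtain ⟨i, y, rfl⟩ := surj_rep X TC c Θ D T Y hY (hcol Y hY) (hac Y hY) z
    exact h1 i y) h2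

include c in
/-- **F5** -/
theorem allHit_of_rep [IsNoetherianRing A] [HasFilteredColimitsOfSize.{s, s} C] (D : K654.RepDatum.{s} X) {O : C} (one : X.us.obj O)
    (T : ThetaData.{s} X TC Θ O) (G : GenData.{p} X TC c one D.K)
    (hcol : ∀ Y : CochainComplex C ℤ, Bdd Y → PreservesColimit D.Ψ (TC.map₂CochainComplex.obj Y))
    (hac : ∀ Y : CochainComplex C ℤ, Bdd Y → ∀ j < 0, K792.Acyc Θ ((ten TC Y D.K).homology j)) :
    AllHit X (X.usC.obj D.K) :=
  allHit3 (theta3 X TC c Θ D one T G hcol hac)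

end Theta

end Groth.Agent.ResProp.EF.F5
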