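import Groth.Agent.ResProp.EF.K294.Defs

/-!
# F5 (heart of S16912): interface, abstract half (captain helper386)

Everything in honest bounded complexes over an abstract chart `X : K294.Chart A C`.

* `Coh h` : cohomological functor on bounded complexes (middle exact on short exact sequences, vanishing).
* `RepOn X h Q q` : `h` is represented on the `ul N`, `N` bounded, by `(Q, q)`.
* `RepLemma` (744; 475, 70, 911): every class of `h Y` is hit by some `T ⟶ Y` with `us T` quasi-isomorphic to `Q`.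
* `hh X K Y = H^0(us Y ⊗ K)`; `AllHit X K` : every class of `hh X K Y`, `Y` bounded, is hit by some `T` with `us T` perfect.
* `Theta X K` : the datum produced from the REP datum; `Gen` (494): invariant classes hit ⇒ all classes hit.
* `allHit_of_theta` : `RepLemma`, `Gen`, `Theta` ⇒ `AllHit`.
-/

set_option autoImplicit false

universe t w v u

open CategoryTheory CategoryTheory.Limits HomologicalComplex

namespace Groth.Agent.ResProp.EF.F5

open Groth.Agent.ResProp.EF.K294 Groth.Agent.PerfB.RingKFlat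

section

variable {C : Type v} [Category.{w} C] [Abelian C]

/-- strictly bounded complexes -/
def Bdd (K : CochainComplex C ℤ) : Prop := ∃ a b : ℤ, K.IsStrictlyGE a ∧ K.IsStrictlyLE b

/-- honest cohomological functors on bounded complexes -/
structure Coh (h : CochainComplex C ℤ ⥤ AddCommGrpCat.{t}) : Prop where
  additive : h.Additive
  exact : ∀ S : ShortComplex (CochainComplex C ℤ), S.ShortExact → Bdd S.X₁ → Bdd S.X₂ → Bdd S.X₃ →
    ∀ x : h.obj S.X₂, (h.map S.g).hom x = 0 → ∃ y : h.obj S.X₁, (h.map S.f).hom y = x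
  vanish : ∃ N : ℤ, ∀ Z : CochainComplex C ℤ, Bdd Z → (∀ i ≤ N, Z.ExactAt i) → ∀ x : h.obj Z, x = 0

variable {A : Type u} [CommRing A] (X : Chart A C)

/-- `h` is represented on push-forwards of bounded complexes by `(Q, q)` -/
structure RepOn (h : CochainComplex C ℤ ⥤ AddCommGrpCat.{t}) (Q : CM A) (q : h.obj (X.ulC.obj Q)) : Prop where
  ex : ∀ N : CM A, Bdd N → ∀ x : h.obj (X.ulC.obj N), ∃ f : Q ⟶ N, (h.map (X.ulC.map f)).hom q = x
  uniq : ∀ N : CM A, Bdd N → ∀ f g : Q ⟶ N, (h.map (X.ulC.map f)).hom q = (h.map (X.ulC.map g)).hom q →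
    ∀ i : ℤ, homologyMap f i = homologyMap g i

/-- **REP LEMMA** (744): no duals -/
def RepLemma : Prop :=
  ∀ (h : CochainComplex C ℤ ⥤ AddCommGrpCat.{t}), Coh h → ∀ (Q : CM A), Bdd Q → ∀ q : h.obj (X.ulC.obj Q),
    RepOn X h Q q → ∀ Y : CochainComplex C ℤ, Bdd Y → ∀ y : h.obj Y,
      ∃ (T : CochainComplex C ℤ) (p : T ⟶ Y) (s : h.obj T), Bdd T ∧ (h.map p).hom s = y ∧
        ∃ l : Q ⟶ X.usC.obj T, QuasiIso l

/-- bounded complexes of finite projective modules -/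
structure Perf (Q : CM A) : Prop where
  bdd : Bdd Q
  fin : ∀ n : ℤ, Module.Finite A (Q.X n)
  proj : ∀ n : ℤ, Module.Projective A (Q.X n)

/-- bounded complexes `T` of `C` with `us T` perfect -/
def PerfT (T : CochainComplex C ℤ) : Prop :=
  Bdd T ∧ ∃ (Q : CM A) (l : Q ⟶ X.usC.obj T), Perf Q ∧ QuasiIso l

/-- `Y ↦ H^0(us Y ⊗ K)` -/
noncomputable def hh (K : CM A) : CochainComplex C ℤ ⥤ ModuleCat.{u} A :=
  X.usC ⋙ (TR A).map₂CochainComplex.flip.obj K ⋙ homologyFunctor _ (ComplexShape.up ℤ) 0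

/-- every class of `H^0(us Y ⊗ K)`, `Y` bounded, is hit by a complex `T` with `us T` perfect -/
def AllHit (K : CM A) : Prop :=
  ∀ Y : CochainComplex C ℤ, Bdd Y → ∀ y : (hh X K).obj Y,
    ∃ (T : CochainComplex C ℤ) (p : T ⟶ Y) (s : (hh X K).obj T), PerfT X T ∧ ((hh X K).map p).hom s = y

/-- `S` is a directed union of ranges of maps `H T ⟶ H Y`, `T` bounded -/
def DirRange {H : CochainComplex C ℤ ⥤ C} {Y : CochainComplex C ℤ} (S : Submodule A (X.us.obj (H.obj Y))) : Prop :=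
  ∀ s ∈ S, ∀ s' ∈ S, ∃ (T : CochainComplex C ℤ) (p : T ⟶ Y), Bdd T ∧
    s ∈ LinearMap.range (X.us.map (H.map p)).hom ∧ s' ∈ LinearMap.range (X.us.map (H.map p)).hom ∧
    LinearMap.range (X.us.map (H.map p)).hom ≤ S

/-- the datum which the REP datum (sections 3 - 6) gives for the flat model `K` of `Kc` on the chart -/
structure Theta (K : CM A) where
  bddK : Bdd K
  flatK : ∀ n : ℤ, Module.Flat A (K.X n)
  /-- the unit comodule -/
  O : C
  /-- `H Y` = the comodule `H^0(Y ⊗ K)` -/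
  H : CochainComplex C ℤ ⥤ C
  iso : H ⋙ X.us ≅ hh X K
  /-- index of the `Ψ_i` -/
  ι : Type t
  /-- `h i Y = H^0 RΓ(X, Ψ_i ⊗ Y)` -/
  h : ι → (CochainComplex C ℤ ⥤ AddCommGrpCat.{t})
  coh : ∀ i, Coh (h i)
  /-- the dual of `us Ψ_i` on the chart -/
  Q : ι → CM A
  perf : ∀ i, Perf (Q i)
  q : ∀ i, (h i).obj (X.ulC.obj (Q i))
  rep : ∀ i, RepOn X (h i) (Q i) (q i)
  /-- `H^0 RΓ(X, Ψ_i ⊗ Y) ⟶ H^0 RΓ(X, K ⊗ Y) ⟶ Γ(X, H^0(K ⊗ Y))` -/
  ev : ∀ (i : ι) (Y : CochainComplex C ℤ), (h i).obj Y → (O ⟶ H.obj Y)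
  ev_nat : ∀ (i : ι) {Y Y' : CochainComplex C ℤ} (f : Y ⟶ Y') (y : (h i).obj Y),
    ev i Y' (((h i).map f).hom y) = ev i Y y ≫ H.map f
  /-- every invariant class comes from some `Ψ_i` (smallness: `Γ(X, -)`-acyclic cohomology; colimit) -/
  surj : ∀ Y : CochainComplex C ℤ, Bdd Y → ∀ z : O ⟶ H.obj Y, ∃ (i : ι) (y : (h i).obj Y), ev i Y y = z
  /-- smallness: a non zero quotient of `H Y` by a directed union of ranges has a non zero invariant -/
  small : ∀ Y : CochainComplex C ℤ, Bdd Y → ∀ S : Submodule A (X.us.obj (H.obj Y)), DirRange X S → S ≠ ⊤ →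
    ∃ (E : C) (j : E ⟶ H.obj Y) (π : E ⟶ O), Epi π ∧ Module.Finite A (X.us.obj E) ∧
      (∀ e : X.us.obj E, (X.us.map π).hom e = 0 → (X.us.map j).hom e ∈ S) ∧
      ∃ e : X.us.obj E, (X.us.map j).hom e ∉ S

/-- invariant classes are hit -/
def InvHit {K : CM A} (Θ : Theta.{t} X K) : Prop :=
  ∀ Y : CochainComplex C ℤ, Bdd Y → ∀ z : Θ.O ⟶ Θ.H.obj Y,
    ∃ (T : CochainComplex C ℤ) (p : T ⟶ Y) (s : Θ.O ⟶ Θ.H.obj T), PerfT X T ∧ s ≫ Θ.H.map p = z

/-- **GEN** (494): invariant classes hit ⇒ all classes hit -/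
def Gen [IsNoetherianRing A] : Prop := ∀ (K : CM A) (Θ : Theta.{t} X K), InvHit X Θ → AllHit X K

variable {X}

theorem invHit {K : CM A} (Θ : Theta.{t} X K) (hrep : RepLemma.{t} X) : InvHit X Θ := by
  intro Y hY z
  obtain ⟨i, y, rfl⟩ := Θ.surj Y hY z
  obtain ⟨T, p, s, hT, hs, l, hl⟩ := hrep (Θ.h i) (Θ.coh i) (Θ.Q i) (Θ.perf i).bdd (Θ.q i) (Θ.rep i) Y hY y
  refine ⟨T, p, Θ.ev i T s, ⟨hT, Θ.Q i, l, Θ.perf i, hl⟩, ?_⟩
  rw [← Θ.ev_nat, hs]

theorem allHit_of_theta [IsNoetherianRing A] (hrep : RepLemma.{t} X) (hgen : Gen.{t} X) {K : CM A}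
    (Θ : Theta.{t} X K) : AllHit X K :=
  hgen K Θ (invHit Θ hrep)

end

end Groth.Agent.ResProp.EF.F5
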