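import Groth.Agent.ResProp.EF.F5.Main
import Groth.Agent.ResProp.EF.K744.Rep

/-!
# `RepLemma` from helper744's `repHit`; `allHit` without hypotheses
-/

set_option autoImplicit false

universe p t w v u

open CategoryTheory CategoryTheory.Limits HomologicalComplex

namespace Groth.Agent.ResProp.EF.F5

open Groth.Agent.ResProp.EF.K294 Groth.Agent.PerfB.RingKFlat

lemma bdd_iff {D : Type*} [Category* D] [Abelian D] (K : CochainComplex D ℤ) : Bdd K ↔ K744.Bdd K := by
  constructor
  · rintro ⟨a, b, ha, hb⟩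
    rw [CochainComplex.isStrictlyGE_iff] at ha
    rw [CochainComplex.isStrictlyLE_iff] at hb
    exact ⟨a, b, fun i hi => hi.elim (fun h => ha i h) (fun h => hb i h)⟩
  · rintro ⟨a, b, h⟩
    refine ⟨a, b, ?_, ?_⟩
    · rw [CochainComplex.isStrictlyGE_iff]
      exact fun i hi => h i (Or.inl hi)
    · rw [CochainComplex.isStrictlyLE_iff]
      exact fun i hi => h i (Or.inr hi)

variable {C : Type v} [Category.{w} C] [Abelian C] {A : Type u} [CommRing A] (X : Chart A C)

/-- the theory of helper744 from our data -/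
noncomputable def repTheory (h : CochainComplex C ℤ ⥤ AddCommGrpCat.{t}) (hh : Coh h) (Q : CM A) (hQ : Bdd Q)
    (q : h.obj (X.ulC.obj Q)) (hr : RepOn X h Q q) (N₀ : ℤ)
    (hN : ∀ Z : CochainComplex C ℤ, Bdd Z → (∀ i ≤ N₀, Z.ExactAt i) → ∀ x : h.obj Z, x = 0) :
    K744.RepTheory.{t} X.us X.ul X.adj where
  h := h
  additive := hh.additive
  exact S hS h1 h2 h3 x hx := hh.exact S hS ((bdd_iff _).2 h1) ((bdd_iff _).2 h2) ((bdd_iff _).2 h3) x hx
  N₀ := N₀
  vanish Z hZ h0 x := hN Z ((bdd_iff _).2 hZ) h0 x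
  Q := Q
  bddQ := (bdd_iff _).1 hQ
  q := q
  rep_exists N hN x := hr.ex N ((bdd_iff _).2 hN) x
  rep_unique N hN f g hfg i := hr.uniq N ((bdd_iff _).2 hN) f g hfg i

theorem repLemma : RepLemma.{t} X := by
  intro h hh Q hQ q hr Y hY y
  obtain ⟨N₀, hN⟩ := hh.vanish
  have : PreservesFiniteColimits X.us := by
    have := X.adj.leftAdjoint_preservesColimits
    exact ⟨fun _ => inferInstance⟩
  have : PreservesFiniteLimits X.ul := by
    have := X.adj.rightAdjoint_preservesLimits
    exact ⟨fun _ => inferInstance⟩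
  obtain ⟨T, hT, p, s, l, hs, hl, -⟩ := K744.repHit (repTheory X h hh Q hQ q hr N₀ hN) Y ((bdd_iff _).1 hY) y
  exact ⟨T, p, s, (bdd_iff _).2 hT, hs, l, hl⟩

/-- **F5, abstract half, final form** -/
theorem allHit' [IsNoetherianRing A] {K : CM A} (Θ : Theta2.{p, t} X K) : AllHit X K :=
  allHit (repLemma X) Θ

end Groth.Agent.ResProp.EF.F5
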