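import Groth.Agent.ResProp.EF.F5.RepAd

/-!
# F5: the datum `Theta3` (weakest form) and `AllHit` (captain helper386)

Everything only for BOUNDED `Y`: a set `P` of natural additive endomorphisms of `Y ↦ hh X K Y = H^0(us Y ⊗ K)`, functors
`h i` (`= H^0 RΓ(X, Y ⊗ Ψ_i)`) represented on push-forwards by perfect complexes, natural maps `ev i Y : h i Y → hh X K Y`
whose values generate (with `+`, `-` and `P`) all of `hh X K Y`. `P` need not act on `K`, no ring structure is asked.
Theorems: `allHit3 : Theta3 X K → AllHit X K`; `Theta3.ofModule` from a functor `V` to `P`-modules on bounded complexes.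
-/

set_option autoImplicit false

universe p r t w v u

open CategoryTheory CategoryTheory.Limits HomologicalComplex

namespace Groth.Agent.ResProp.EF.F5

open Groth.Agent.ResProp.EF.K294 Groth.Agent.PerfB.RingKFlat

variable {C : Type v} [Category.{w} C] [Abelian C] {A : Type u} [CommRing A] (X : Chart A C)

/-- the datum for `AllHit`, weakest form -/
structure Theta3 (K : CM A) where
  /-- index set of the endomorphisms -/
  P : Type p
  act : P → ∀ Y : CochainComplex C ℤ, (hh X K).obj Y →+ (hh X K).obj Y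
  act_nat : ∀ (a : P) {Y Y' : CochainComplex C ℤ}, Bdd Y → Bdd Y' → ∀ (f : Y ⟶ Y') (z : (hh X K).obj Y),
    act a Y' (((hh X K).map f).hom z) = ((hh X K).map f).hom (act a Y z)
  ι : Type r
  /-- `h i Y = H^0 RΓ(X, Y ⊗ Ψ_i)` -/
  h : ι → (CochainComplex C ℤ ⥤ AddCommGrpCat.{t})
  coh : ∀ i, Coh (h i)
  Q : ι → CM A
  perf : ∀ i, Perf (Q i)
  q : ∀ i, (h i).obj (X.ulC.obj (Q i))
  rep : ∀ i, RepOn X (h i) (Q i) (q i)
  ev : ∀ (i : ι) (Y : CochainComplex C ℤ), (h i).obj Y → (hh X K).obj Y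
  ev_nat : ∀ (i : ι) {Y Y' : CochainComplex C ℤ}, Bdd Y → Bdd Y' → ∀ (f : Y ⟶ Y') (y : (h i).obj Y),
    ev i Y' (((h i).map f).hom y) = ((hh X K).map f).hom (ev i Y y)
  /-- generation by the values of the `ev i` -/
  gen : ∀ Y : CochainComplex C ℤ, Bdd Y → ∀ Z : AddSubgroup ((hh X K).obj Y),
    (∀ (i : ι) (y : (h i).obj Y), ev i Y y ∈ Z) → (∀ (a : P), ∀ z ∈ Z, act a Y z ∈ Z) → Z = ⊤

variable {X}

/-- `z` is hit by a complex `T` with `us T` perfect -/
def Hits {K : CM A} {Y : CochainComplex C ℤ} (z : (hh X K).obj Y) : Prop :=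
  ∃ (T : CochainComplex C ℤ) (p : T ⟶ Y) (s : (hh X K).obj T), PerfT X T ∧ ((hh X K).map p).hom s = z

/-- the classes which are hit -/
def hitGp (K : CM A) (Y : CochainComplex C ℤ) : AddSubgroup ((hh X K).obj Y) where
  carrier := {z | Hits z}
  zero_mem' := by
    obtain ⟨T, hT⟩ := HasZeroObject.zero (C := CochainComplex C ℤ)
    exact ⟨T, hT.to_ Y, 0, perfT_of_isZero _ hT, map_zero _⟩
  neg_mem' := by
    rintro _ ⟨T, p, s, hT, rfl⟩
    exact ⟨T, p, -s, hT, map_neg _ _⟩
  add_mem' := by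
    rintro _ _ ⟨T, p, s, hT, rfl⟩ ⟨T', p', s', hT', rfl⟩
    refine ⟨T ⊞ T', biprod.desc p p', ((hh X K).map biprod.inl).hom s + ((hh X K).map biprod.inr).hom s',
      perfT_biprod hT hT', ?_⟩
    rw [map_add, ← LinearMap.comp_apply, ← LinearMap.comp_apply, ← ModuleCat.hom_comp, ← ModuleCat.hom_comp,
      ← Functor.map_comp, ← Functor.map_comp, biprod.inl_desc, biprod.inr_desc]

/-- **F5, abstract half, final form** -/
theorem allHit3 [IsNoetherianRing A] {K : CM A} (Θ : Theta3.{p, r, t} X K) : AllHit X K := by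
  intro Y hY y
  have h := Θ.gen Y hY (hitGp K Y) (fun i y => by
    obtain ⟨T, f, s, hT, hs, l, hl⟩ := repLemma X (Θ.h i) (Θ.coh i) (Θ.Q i) (Θ.perf i).bdd (Θ.q i) (Θ.rep i) Y hY y
    exact ⟨T, f, Θ.ev i T s, ⟨hT, Θ.Q i, l, Θ.perf i, hl⟩, by rw [← Θ.ev_nat i hT hY, hs]⟩) (by
    rintro a _ ⟨T, f, s, hT, rfl⟩
    exact ⟨T, f, Θ.act a T s, hT, (Θ.act_nat a hT.1 hY f s).symm⟩)
  have hy : y ∈ hitGp K Y := by rw [h]; trivial
  exact hy

/-- closure of `span_P = ⊤` into the form of `gen` -/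
theorem gen_of_span {P : Type*} [Ring P] {V W : Type*} [AddCommGroup V] [Module P V] [AddCommGroup W] (e : V ≃+ W)
    (I : Set V) (hI : Submodule.span P I = ⊤) (Z : AddSubgroup W) (h1 : ∀ z ∈ I, e z ∈ Z)
    (h2 : ∀ (a : P), ∀ z ∈ Z, e (a • e.symm z) ∈ Z) : Z = ⊤ := by
  rw [eq_top_iff]
  intro z _
  have key : ∀ v : V, e v ∈ Z := by
    intro v
    have hv : v ∈ Submodule.span P I := by rw [hI]; trivial
    induction hv using Submodule.span_induction with
    | mem x hx => exact h1 x hx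
    | zero => rw [map_zero]; exact Z.zero_mem
    | add x y _ _ hx hy => rw [map_add]; exact Z.add_mem hx hy
    | smul a x _ hx =>
      have := h2 a _ hx
      rwa [AddEquiv.symm_apply_apply] at this
  have := key (e.symm z)
  rwa [AddEquiv.apply_symm_apply] at this

end Groth.Agent.ResProp.EF.F5
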